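import Groth.Agent.AlgStDVR.Points
import Groth.Agent.AlgStBasic.MonoCalc
import Groth.Agent.AlgStBasic.RepDescend
import Groth.Agent.AlgSp2.UnramMono
import Groth.Agent.AlgSp2.ImmersionLocality
import Groth.Agent.S15348

/-!
# Immersion criteria for monomorphisms of algebraic stacks

The criteria for monomorphisms of schemes, read on an atlas of the target.
-/

set_option autoImplicit false
set_option backward.isDefEq.respectTransparency false
set_option backward.isDefEq.respectTransparency.types false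

universe u

open CategoryTheory CategoryTheory.Limits AlgebraicGeometry Opposite Topology
open Groth.StkBase Groth.AlgStBasic Groth.AlgSpBasic

noncomputable section

namespace Groth.AlgStImm

variable {S : Scheme.{u}} {𝒳 𝒴 : AlgSt.Cat S}

/-- Two representable properties hold on the same representing spaces. -/
theorem repWith_inf {P Q : MorphismProperty (AlgSp.Sp S)} (hQ : StableBaseChange Q) {f : 𝒴 ⥤ᵇ 𝒳}
    (hp : AlgSt.RepByAlgSpWith P f) (hq : AlgSt.RepByAlgSpWith Q f) :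
    AlgSt.RepByAlgSpWith (P ⊓ Q) f := fun U y => by
  obtain ⟨F, e, he, h⟩ := hp U y
  exact ⟨F, e, he, h, prop_of_repWith_fp hQ hq y F e he⟩

/-- The dense lifting condition. -/
def DenseLift (f : 𝒴 ⥤ᵇ 𝒳) : Prop :=
  ∀ (A : Type u) [CommRing A] [IsDomain A] (sA : Spec (CommRingCat.of A) ⟶ S)
      (a : FibCat.overCat (Over.mk sA) ⥤ᵇ 𝒳) (D : Set ↥(Spec (CommRingCat.of A))), Dense D →
      (∀ p ∈ D, ∃ yp : FibCat.overCat (Over.mk ((Spec (CommRingCat.of A)).fromSpecResidueField p ≫ sA)) ⥤ᵇ 𝒴,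
          Nonempty (BasedFunctor.comp yp f ≅ BasedFunctor.comp (AlgSt.overMap (Over.homMk ((Spec (CommRingCat.of A)).fromSpecResidueField p) rfl : Over.mk (((Spec (CommRingCat.of A)).fromSpecResidueField p) ≫ sA) ⟶ Over.mk sA)) a)) →
      ∃ U : (Spec (CommRingCat.of A)).Opens, (U : Set ↥(Spec (CommRingCat.of A))).Nonempty ∧
        ∃ yU : FibCat.overCat (Over.mk (U.ι ≫ sA)) ⥤ᵇ 𝒴,
          Nonempty (BasedFunctor.comp yU f ≅ BasedFunctor.comp (AlgSt.overMap (Over.homMk (U.ι) rfl : Over.mk ((U.ι) ≫ sA) ⟶ Over.mk sA)) a)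

/-- The lifting condition at discrete valuation rings. -/
def DVRLift (f : 𝒴 ⥤ᵇ 𝒳) : Prop :=
  ∀ (A : Type u) [CommRing A] [IsDomain A] [IsDiscreteValuationRing A] (K : Type u) [Field K] [Algebra A K]
      [IsFractionRing A K] (sA : Spec (CommRingCat.of A) ⟶ S) (a : FibCat.overCat (Over.mk sA) ⥤ᵇ 𝒳),
      (∃ yK : FibCat.overCat (Over.mk (Spec.map (CommRingCat.ofHom (algebraMap A K)) ≫ sA)) ⥤ᵇ 𝒴,
          Nonempty (BasedFunctor.comp yK f ≅ BasedFunctor.comp (AlgSt.overMap (Over.homMk (Spec.map (CommRingCat.ofHom (algebraMap A K))) rfl : Over.mk ((Spec.map (CommRingCat.ofHom (algebraMap A K))) ≫ sA) ⟶ Over.mk sA)) a)) →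
      (∃ yk : FibCat.overCat (Over.mk (Spec.map (CommRingCat.ofHom (IsLocalRing.residue A)) ≫ sA)) ⥤ᵇ 𝒴,
          Nonempty (BasedFunctor.comp yk f ≅ BasedFunctor.comp (AlgSt.overMap (Over.homMk (Spec.map (CommRingCat.ofHom (IsLocalRing.residue A))) rfl : Over.mk ((Spec.map (CommRingCat.ofHom (IsLocalRing.residue A))) ≫ sA) ⟶ Over.mk sA)) a)) →
      ∃ y : FibCat.overCat (Over.mk sA) ⥤ᵇ 𝒴, Nonempty (BasedFunctor.comp y f ≅ a)

theorem isEquivOver_ofSpMap {F G : AlgSp.Sp S} (i : F ≅ G) :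
    FibCat.IsEquivOver (AlgSt.ofSpMap i.hom) := by
  refine ⟨AlgSt.ofSpMap i.inv, ⟨?_⟩, ⟨?_⟩⟩
  · exact (nonempty_iso_mapOf _).some.trans
      ((eqToIso (congrArg AlgSt.ofSpMap (by
        rw [mapOf_comp, mapOf_ofSpMap, mapOf_ofSpMap, i.hom_inv_id,
          show mapOf (BasedFunctor.id (AlgSt.ofSp F)) = 𝟙 F from mapOf_ofSpMap (𝟙 F)]))).trans
        (nonempty_iso_mapOf _).some.symm)
  · exact (nonempty_iso_mapOf _).some.trans
      ((eqToIso (congrArg AlgSt.ofSpMap (by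
        rw [mapOf_comp, mapOf_ofSpMap, mapOf_ofSpMap, i.inv_hom_id,
          show mapOf (BasedFunctor.id (AlgSt.ofSp G)) = 𝟙 G from mapOf_ofSpMap (𝟙 G)]))).trans
        (nonempty_iso_mapOf _).some.symm)

/-- A chart of the base change to a scheme of a monomorphism locally of finite presentation: a scheme
mapping by a monomorphism. -/
structure MonoChart (f : 𝒴 ⥤ᵇ 𝒳) {U : Over S} (x : FibCat.overCat U ⥤ᵇ 𝒳) where
  /-- The scheme. -/
  W : Over S
  /-- The monomorphism. -/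
  g : W ⟶ U
  /-- The representing space. -/
  F : AlgSp.Space S
  /-- The representation. -/
  e : AlgSt.ofSp F.obj ⥤ᵇ FibCat.fp x f
  he : FibCat.IsEquivOver e
  /-- The comparison of the scheme and the space. -/
  i : (AlgSp.yon S).obj W ≅ F.obj
  hi : i.hom ≫ AlgSt.spMapOfOver (BasedFunctor.comp e (FibCat.fpFst x f)) = (AlgSp.yon S).map g
  mono : Mono g.left
  lfp : LocallyOfFinitePresentation g.left

theorem nonempty_monoChart {f : 𝒴 ⥤ᵇ 𝒳}
    (hlfp : AlgSt.RepByAlgSpWith (AlgSp.LocP @LocallyOfFinitePresentation) f)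
    (ha : AlgSt.IsMono f) {U : Over S} (x : FibCat.overCat U ⥤ᵇ 𝒳) : Nonempty (MonoChart f x) := by
  obtain ⟨F, e, he, hl, hm⟩ := repWith_inf stableBaseChange_mono hlfp ha U x
  let a := AlgSt.spMapOfOver (BasedFunctor.comp e (FibCat.fpFst x f))
  have : Mono a := hm
  have hU := AlgSp.IsAlgSpace.yon_obj U
  have hr : AlgSp.Representable a :=
    (Groth.AlgSp2.representable_of_mono_lft F.property hU
      (Groth.AlgSpBasic.locP_mono (P := @LocallyOfFinitePresentation) (Q := @LocallyOfFiniteType)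
        (fun _ _ k (_ : LocallyOfFinitePresentation k) => inferInstance) hl)).1
  let g : hr.pullback (𝟙 ((AlgSp.yon S).obj U)) ⟶ U := hr.snd (𝟙 ((AlgSp.yon S).obj U))
  have sq : IsPullback (hr.fst (𝟙 ((AlgSp.yon S).obj U))) ((AlgSp.yon S).map g) a (𝟙 _) :=
    hr.isPullback _
  have : IsIso (hr.fst (𝟙 ((AlgSp.yon S).obj U))) := sq.isIso_fst_of_isIso
  have hW := AlgSp.IsAlgSpace.yon_obj (hr.pullback (𝟙 ((AlgSp.yon S).obj U)))
  have hgm : Mono ((AlgSp.yon S).map g) := stableBaseChange_mono F.property hU hW hU _ _ _ _ sq hm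
  have : Mono g := (AlgSp.yon S).mono_of_mono_map hgm
  exact ⟨{ W := _, g := g, F := F, e := e, he := he
           i := asIso (hr.fst (𝟙 ((AlgSp.yon S).obj U)))
           hi := sq.w.trans (Category.comp_id _)
           mono := inferInstance
           lfp := left_prop_of_locP_yon
             (stableBaseChange_locP F.property hU hW hU _ _ _ _ sq hl) }⟩

namespace MonoChart

variable {f : 𝒴 ⥤ᵇ 𝒳} {U : Over S} {x : FibCat.overCat U ⥤ᵇ 𝒳} (c : MonoChart f x)

/-- The equivalence of the scheme with the base change. -/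
def L : FibCat.overCat c.W ⥤ᵇ FibCat.fp x f :=
  BasedFunctor.comp (BasedFunctor.comp (AlgSt.ofOverCat c.W) (AlgSt.ofSpMap c.i.hom)) c.e

theorem isEquivOver_L : FibCat.IsEquivOver c.L :=
  isEquivOver_comp (isEquivOver_comp (isEquivOver_ofOverCat _) (isEquivOver_ofSpMap c.i)) c.he

theorem nonempty_L_fst : Nonempty (BasedFunctor.comp c.L (FibCat.fpFst x f) ≅ AlgSt.overMap c.g) := by
  let Φ := BasedFunctor.comp (AlgSt.ofSpMap c.i.hom) (BasedFunctor.comp c.e (FibCat.fpFst x f))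
  let Φ' : AlgSt.ofSp ((AlgSp.yon S).obj c.W) ⥤ᵇ AlgSt.ofSp ((AlgSp.yon S).obj U) :=
    BasedFunctor.comp Φ (AlgSt.ofOverCat U)
  have h : mapOf Φ' = (AlgSp.yon S).map c.g := by
    rw [← c.hi]
    refine (mapOf_comp (G := c.F.obj) (AlgSt.ofSpMap c.i.hom)
      (BasedFunctor.comp (BasedFunctor.comp c.e (FibCat.fpFst x f)) (AlgSt.ofOverCat U))).trans ?_
    rw [mapOf_ofSpMap]
    exact congrArg (c.i.hom ≫ ·) (ObjectProperty.hom_ext _ (spMapOfOver_hom_eq _).symm)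
  have h₂ : mapOf (G := (AlgSp.yon S).obj U) (BasedFunctor.comp
      (BasedFunctor.comp (AlgSt.toOverCat c.W) (AlgSt.overMap c.g)) (AlgSt.ofOverCat U)) =
      (AlgSp.yon S).map c.g := by
    rw [← spMapOfOver_toOverCat c.g]
    exact ObjectProperty.hom_ext _ (spMapOfOver_hom_eq _).symm
  obtain ⟨β₁⟩ := nonempty_iso_mapOf Φ'
  obtain ⟨β₂⟩ := nonempty_iso_mapOf (G := (AlgSp.yon S).obj U) (BasedFunctor.comp
    (BasedFunctor.comp (AlgSt.toOverCat c.W) (AlgSt.overMap c.g)) (AlgSt.ofOverCat U))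
  let β := β₁.trans ((eqToIso (congrArg AlgSt.ofSpMap (h.trans h₂.symm))).trans β₂.symm)
  exact ⟨(whiskerRightIso (whiskerLeftIso (AlgSt.ofOverCat c.W) β) (AlgSt.toOverCat U) :)⟩

/-- The scheme lifts to the source. -/
theorem exists_lift {T : Over S} (l : T ⟶ c.W) :
    ∃ y : FibCat.overCat T ⥤ᵇ 𝒴,
      Nonempty (BasedFunctor.comp y f ≅ BasedFunctor.comp (AlgSt.overMap (l ≫ c.g)) x) := by
  obtain ⟨γ⟩ := c.nonempty_L_fst
  exact ⟨BasedFunctor.comp (AlgSt.overMap l) (BasedFunctor.comp c.L (FibCat.fpSnd x f)),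
    ⟨(whiskerLeftIso (AlgSt.overMap l) ((whiskerLeftIso c.L (FibCat.fpIso x f).symm).trans
      (whiskerRightIso γ x))).trans (whiskerRightIso (Groth.AlgStDVR.overMapComp l c.g) x)⟩⟩

/-- A lift to the source gives one to the scheme. -/
theorem exists_hom {T : Over S} (b : T ⟶ U) (y : FibCat.overCat T ⥤ᵇ 𝒴)
    (α : BasedFunctor.comp y f ≅ BasedFunctor.comp (AlgSt.overMap b) x) :
    ∃ l : T ⟶ c.W, l ≫ c.g = b := by
  let k : FibCat.overCat T ⥤ᵇ FibCat.fp x f := FibCat.fpLift (AlgSt.overMap b) y α.symm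
  obtain ⟨L', -, ⟨ε⟩, ⟨ε'⟩⟩ := isEquivOver_symm c.isEquivOver_L
  obtain ⟨γ⟩ := c.nonempty_L_fst
  obtain ⟨l, ⟨δ⟩⟩ := exists_iso_overMap (BasedFunctor.comp k L')
  refine ⟨l, Groth.AlgStDVR.eq_of_overMap_iso ?_⟩
  exact (Groth.AlgStDVR.overMapComp l c.g).symm.trans
    ((whiskerRightIso δ.symm (AlgSt.overMap c.g)).trans
      ((whiskerLeftIso (BasedFunctor.comp k L') γ.symm).trans
        (whiskerRightIso (whiskerLeftIso k ε') (FibCat.fpFst x f))))

theorem denseLift (hc : DenseLift f) :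
    ∀ (A : Type u) [CommRing A] [IsDomain A] (s : Spec (CommRingCat.of A) ⟶ U.left)
      (D : Set ↥(Spec (CommRingCat.of A))), Dense D →
      (∀ p ∈ D, ∃ l : Spec ((Spec (CommRingCat.of A)).residueField p) ⟶ c.W.left,
          l ≫ c.g.left = (Spec (CommRingCat.of A)).fromSpecResidueField p ≫ s) →
        ∃ V : (Spec (CommRingCat.of A)).Opens, (V : Set ↥(Spec (CommRingCat.of A))).Nonempty ∧
          ∃ l : (V : Scheme.{u}) ⟶ c.W.left, l ≫ c.g.left = V.ι ≫ s := by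
  intro A _ _ s D hD hp
  let b : Over.mk (s ≫ U.hom) ⟶ U := Over.homMk s rfl
  obtain ⟨V, hV, y, ⟨α⟩⟩ := hc A (s ≫ U.hom) (BasedFunctor.comp (AlgSt.overMap b) x) D hD
    fun p hpD => by
      obtain ⟨l, hl⟩ := hp p hpD
      let lO : Over.mk ((Spec (CommRingCat.of A)).fromSpecResidueField p ≫ s ≫ U.hom) ⟶ c.W :=
        Over.homMk l (by rw [← Over.w c.g, reassoc_of% hl]; rfl)
      have e : lO ≫ c.g = Over.homMk ((Spec (CommRingCat.of A)).fromSpecResidueField p) rfl ≫ b :=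
        Over.OverMorphism.ext hl
      obtain ⟨y, ⟨α⟩⟩ := c.exists_lift lO
      exact ⟨y, ⟨α.trans (whiskerRightIso ((Groth.AlgStDVR.overMapCongr e).trans
        (Groth.AlgStDVR.overMapComp _ b).symm) x)⟩⟩
  obtain ⟨l, hl⟩ := c.exists_hom _ y (α.trans (whiskerRightIso (Groth.AlgStDVR.overMapComp _ b) x))
  exact ⟨V, hV, l.left, congrArg CommaMorphism.left hl⟩

theorem dvrLift (hb : DVRLift f) (S' : ValuativeCommSq c.g.left) (hS : IsDiscreteValuationRing S'.R)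
    (h₀ : ∃ l₀ : Spec (CommRingCat.of (IsLocalRing.ResidueField S'.R)) ⟶ c.W.left,
      l₀ ≫ c.g.left = Spec.map (CommRingCat.ofHom (IsLocalRing.residue S'.R)) ≫ S'.i₂) :
    S'.commSq.HasLift := by
  have := c.mono
  obtain ⟨l₀, hl₀⟩ := h₀
  let b : Over.mk (S'.i₂ ≫ U.hom) ⟶ U := Over.homMk S'.i₂ rfl
  let kO : Over.mk (Spec.map (CommRingCat.ofHom (algebraMap S'.R S'.K)) ≫ S'.i₂ ≫ U.hom) ⟶ c.W :=
    Over.homMk S'.i₁ (by rw [← Over.w c.g, reassoc_of% S'.commSq.w]; rfl)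
  let k₀ : Over.mk (Spec.map (CommRingCat.ofHom (IsLocalRing.residue S'.R)) ≫ S'.i₂ ≫ U.hom) ⟶
      c.W :=
    Over.homMk l₀ (by rw [← Over.w c.g, reassoc_of% hl₀]; rfl)
  have e₁ : kO ≫ c.g = Over.homMk (Spec.map (CommRingCat.ofHom (algebraMap S'.R S'.K))) rfl ≫ b :=
    Over.OverMorphism.ext S'.commSq.w
  have e₂ : k₀ ≫ c.g =
      Over.homMk (Spec.map (CommRingCat.ofHom (IsLocalRing.residue S'.R))) rfl ≫ b :=
    Over.OverMorphism.ext hl₀
  obtain ⟨y, ⟨α⟩⟩ := hb S'.R S'.K (S'.i₂ ≫ U.hom) (BasedFunctor.comp (AlgSt.overMap b) x)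
    (by
      obtain ⟨y, ⟨α⟩⟩ := c.exists_lift kO
      exact ⟨y, ⟨α.trans (whiskerRightIso ((Groth.AlgStDVR.overMapCongr e₁).trans
        (Groth.AlgStDVR.overMapComp _ b).symm) x)⟩⟩)
    (by
      obtain ⟨y, ⟨α⟩⟩ := c.exists_lift k₀
      exact ⟨y, ⟨α.trans (whiskerRightIso ((Groth.AlgStDVR.overMapCongr e₂).trans
        (Groth.AlgStDVR.overMapComp _ b).symm) x)⟩⟩)
  obtain ⟨l, hl⟩ := c.exists_hom b y α
  have hl' : l.left ≫ c.g.left = S'.i₂ := congrArg CommaMorphism.left hl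
  refine ⟨⟨⟨l.left, ?_, hl'⟩⟩⟩
  rw [← cancel_mono c.g.left, Category.assoc, hl']
  exact S'.commSq.w.symm

end MonoChart

/-- A property local for fppf covers holds once it holds on the charts over an atlas. -/
theorem repWith_of_monoChart {P : MorphismProperty (AlgSp.Sp S)} (hb : StableBaseChange P)
    (hP : AlgSp.IsLocalOnBase AlgSp.IsFppfCover P)
    (h𝒳 : AlgSt.IsAlgStack Scheme.fppfPrecoverage 𝒳) (h𝒴 : AlgSt.IsAlgStack Scheme.fppfPrecoverage 𝒴)
    {f : 𝒴 ⥤ᵇ 𝒳} (hlfp : AlgSt.RepByAlgSpWith (AlgSp.LocP @LocallyOfFinitePresentation) f)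
    (ha : AlgSt.IsMono f)
    (H : ∀ (U : Over S) (x : FibCat.overCat U ⥤ᵇ 𝒳), AlgSt.RepByAlgSpWith (AlgSp.LocP @Smooth) x →
      ∀ c : MonoChart f x, P ((AlgSp.yon S).map c.g)) :
    AlgSt.RepByAlgSpWith P f := by
  obtain ⟨U, x, hx, hxs⟩ := h𝒳.atlas
  obtain ⟨c⟩ := nonempty_monoChart hlfp ha x
  let w : AlgSt.ofSp ((AlgSp.ofScheme S).obj U).obj ⥤ᵇ 𝒳 := BasedFunctor.comp (AlgSt.toOverCat U) x
  have he := isEquivOver_toOverCat U
  have hsm := (repWith_precomp_equiv he x).2 hx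
  refine (repWith_iff_exists_map_of_cover' hb hP h𝒴 h𝒳 f (W := (AlgSp.ofScheme S).obj U) (w := w)
    (repWith_locP_of_smooth (P := @Flat) (fun _ _ k (_ : Smooth k) => inferInstance) hsm)
    (repWith_locP_of_smooth (P := @LocallyOfFinitePresentation)
      (fun _ _ k (_ : Smooth k) => inferInstance) hsm)
    ((repWith_precomp_equiv he x).2 hxs)).2 ?_
  let G : FibCat.fp x f ⥤ᵇ FibCat.fp w f :=
    fpPre (AlgSt.ofOverCat U) (BasedFunctor.id 𝒴) w f
  refine ⟨c.F, ObjectProperty.homMk (AlgSt.spMapOfOver (BasedFunctor.comp c.e (FibCat.fpFst x f))),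
    BasedFunctor.comp c.e G,
    isEquivOver_comp c.he (isEquivOver_fpPre (isEquivOver_ofOverCat U) (isEquivOver_id _) w f),
    ?_, ?_⟩
  · obtain ⟨β⟩ := nonempty_iso_mapOf (G := (AlgSp.yon S).obj U)
      (BasedFunctor.comp (BasedFunctor.comp c.e (FibCat.fpFst x f)) (AlgSt.ofOverCat U))
    exact ⟨(β.trans (eqToIso (congrArg AlgSt.ofSpMap
      (ObjectProperty.hom_ext _ (spMapOfOver_hom_eq _).symm))) :)⟩
  · have := hb.respectsIso
    have h : onSpaces P ((AlgSp.yon S).map c.g) :=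
      ⟨AlgSp.IsAlgSpace.yon_obj _, AlgSp.IsAlgSpace.yon_obj _, H U x hx c⟩
    rw [← c.hi] at h
    exact ((MorphismProperty.cancel_left_of_respectsIso (onSpaces P) c.i.hom _).1 h).2.2

section Results

variable (h𝒳 : AlgSt.IsAlgStack Scheme.fppfPrecoverage 𝒳)
  (h𝒴 : AlgSt.IsAlgStack Scheme.fppfPrecoverage 𝒴)
  (hn : AlgSt.SmoothLocally (fun X => IsLocallyNoetherian X) 𝒳) {f : 𝒴 ⥤ᵇ 𝒳}
  (hlfp : AlgSt.RepByAlgSpWith (AlgSp.LocP @LocallyOfFinitePresentation) f)
  (ha : AlgSt.IsMono f)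

include h𝒳 h𝒴 hn hlfp ha

/-- A monomorphism with dense lifting is quasi-compact. -/
theorem repWith_isQuasiCompactMor_of_denseLift (hc : DenseLift f) :
    AlgSt.RepByAlgSpWith AlgSp.IsQuasiCompactMor f := by
  refine repWith_of_monoChart stableBaseChange_qc isLocalOnBase_fppf_qc h𝒳 h𝒴 hlfp ha
    fun U x hx c => ?_
  have : IsLocallyNoetherian U.left := hn U x hx
  have := c.mono
  have := c.lfp
  exact isQuasiCompactMor_of_repWith (AlgSp.IsAlgSpace.yon_obj _) (AlgSp.IsAlgSpace.yon_obj _)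
    ((AlgSp.repWith_yon_map_iff _ _).2 (Groth.Agent.S15349.result c.g.left (c.denseLift hc)))

/-- A monomorphism with dense lifting and lifting at discrete valuation rings is a quasi-compact
immersion. -/
theorem repWith_immersion_of_lifts (hb : DVRLift f) (hc : DenseLift f) :
    AlgSt.RepByAlgSpWith (AlgSp.RepWith (@IsImmersion ⊓ @QuasiCompact)) f := by
  refine repWith_of_monoChart (stableBaseChange_repWith _)
    (isLocalOnBase_fppf_of_fpqc Groth.AlgSp2.isLocalOnBase_fpqc_repWith_quasiCompact_immersion)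
    h𝒳 h𝒴 hlfp ha fun U x hx c => ?_
  have : IsLocallyNoetherian U.left := hn U x hx
  have := c.mono
  have := c.lfp
  exact (AlgSp.repWith_yon_map_iff _ _).2
    ⟨Groth.Agent.S15348.result c.g.left (c.dvrLift hb) (c.denseLift hc),
      Groth.Agent.S15349.result c.g.left (c.denseLift hc)⟩

end Results

end Groth.AlgStImm
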