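import Groth.Agent.AlgStDVR.Points
import Groth.Agent.AlgStBasic.PropDescend

/-!
# The atlas of the product of a stack with itself over the base
-/

set_option autoImplicit false
set_option backward.isDefEq.respectTransparency false
set_option backward.isDefEq.respectTransparency.types false

universe u

open CategoryTheory CategoryTheory.Limits AlgebraicGeometry Opposite Topology
open Groth.StkBase Groth.AlgStBasic

noncomputable section

namespace Groth.AlgStImm

variable {S : Scheme.{u}} {𝒳 : AlgSt.Cat S}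

/-- A pair of objects over a scheme. -/
def pair {T : Over S} (x y : FibCat.overCat T ⥤ᵇ 𝒳) :
    FibCat.overCat T ⥤ᵇ FibCat.fp (FibCat.toSelf 𝒳) (FibCat.toSelf 𝒳) :=
  FibCat.fpLift x y (selfIso _ _)

/-- The slice over a product is the product of the slices. -/
def prodSlices (U V : Over S) :
    FibCat.overCat (U ⨯ V) ⥤ᵇ
      FibCat.fp (FibCat.toSelf (FibCat.overCat U)) (FibCat.toSelf (FibCat.overCat V)) :=
  FibCat.fpLift (AlgSt.overMap prod.fst) (AlgSt.overMap prod.snd) (selfIso _ _)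

theorem isEquivOver_prodSlices (U V : Over S) : FibCat.IsEquivOver (prodSlices U V) := by
  refine isEquivOver_of_fullyFaithful _ ⟨fun {x y} φ => ?_⟩ ⟨fun {x y} g g' h => ?_⟩ fun y => ?_
  · have h₁ : φ.hom.fst.left ≫ y.hom ≫ prod.fst = x.hom ≫ prod.fst := Over.w φ.hom.fst
    have h₂ : φ.hom.snd.left ≫ y.hom ≫ prod.snd = x.hom ≫ prod.snd := Over.w φ.hom.snd
    have hl : φ.hom.snd.left = φ.hom.fst.left := by
      have h := fp_map_snd φ
      simp only [eqToHom_refl, Category.id_comp, Category.comp_id] at h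
      exact h
    refine ⟨Over.homMk φ.hom.fst.left (prod.hom_ext ((Category.assoc _ _ _).trans h₁)
      ((Category.assoc _ _ _).trans (hl ▸ h₂))), ?_⟩
    exact fp_hom_ext (Over.OverMorphism.ext rfl) (Over.OverMorphism.ext hl.symm)
  · exact Over.OverMorphism.ext (congrArg (fun t => t.hom.fst.left) h)
  · have hX : y.obj.snd.left = y.obj.fst.left := fp_p_snd y
    let x : (FibCat.overCat (U ⨯ V)).obj :=
      Over.mk (prod.lift y.obj.fst.hom (eqToHom hX.symm ≫ y.obj.snd.hom))
    let i₁ : (AlgSt.overMap prod.fst).obj x ≅ y.obj.fst :=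
      Over.isoMk (Iso.refl _) ((Category.id_comp _).trans (prod.lift_fst _ _).symm)
    let i₂ : (AlgSt.overMap prod.snd).obj x ≅ y.obj.snd :=
      Over.isoMk (eqToIso hX.symm) (prod.lift_snd _ _).symm
    refine ⟨x, fpObjIso i₁ i₂ (self_ext ((isVert_map ?_).comp (fp_isVert _))
      ((fp_isVert _).comp (isVert_map ?_))), ⟨rfl, rfl⟩⟩
    · exact ⟨rfl, rfl⟩
    · exact ⟨hX.symm, rfl⟩

/-- Products of functors into a stack, composed with a product of functors. -/
theorem nonempty_fpLift_prodMapF {𝒲 𝒵 𝒳 : AlgSt.Cat S} (a b : 𝒲 ⥤ᵇ 𝒵) (c : 𝒵 ⥤ᵇ 𝒳) :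
    Nonempty (BasedFunctor.comp
        (FibCat.fpLift (F := FibCat.toSelf 𝒵) (G := FibCat.toSelf 𝒵) a b (selfIso _ _))
        (prodMapF c c) ≅
      FibCat.fpLift (F := FibCat.toSelf 𝒳) (G := FibCat.toSelf 𝒳) (BasedFunctor.comp a c)
        (BasedFunctor.comp b c) (selfIso _ _)) :=
  ⟨fpIsoMk (Iso.refl _) (Iso.refl _) fun _ =>
    self_ext ((isVert_map (isVert_id _)).comp (fp_isVert _))
      ((fp_isVert _).comp (isVert_map (isVert_id _)))⟩

theorem repWith_prodMapF {P : MorphismProperty (AlgSp.Sp S)} {𝒵 𝒳 : AlgSt.Cat S}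
    (hZ : FibCat.IsFibGrpd 𝒵.p) (hX : FibCat.IsFibGrpd 𝒳.p)
    (hb : StableBaseChange P) (hc : StableComp P) (hd : DescendsAlongAtlas P)
    {c : 𝒵 ⥤ᵇ 𝒳} (h : AlgSt.RepByAlgSpWith P c) : AlgSt.RepByAlgSpWith P (prodMapF c c) := by
  let B := FibCat.toSelf 𝒳
  let A := FibCat.toSelf 𝒵
  refine repWith_of_iso (f := BasedFunctor.comp
    (fpCongr (selfIso A (BasedFunctor.comp c B)) (selfIso A (BasedFunctor.comp c B)))
    (fpPre c c B B)) ?_ ?_
  · exact fpIsoMk (Iso.refl _) (Iso.refl _) fun _ =>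
      self_ext ((isVert_map (isVert_id _)).comp (fp_isVert _))
        ((fp_isVert _).comp (isVert_map (isVert_id _)))
  · exact (repWith_precomp_equiv (isEquivOver_fpCongr _ _) _).2
      (repWith_fpPre hZ hX hZ isFibGrpd_selfOver hb hc hd c c B B h h)

/-- The product of an atlas with itself has the property of the atlas. -/
theorem repWith_pair_atlas {P : MorphismProperty (AlgSp.Sp S)} (hX : FibCat.IsFibGrpd 𝒳.p)
    (hb : StableBaseChange P) (hc : StableComp P) (hd : DescendsAlongAtlas P) {U : Over S}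
    {x : FibCat.overCat U ⥤ᵇ 𝒳} (h : AlgSt.RepByAlgSpWith P x) :
    AlgSt.RepByAlgSpWith P (pair (BasedFunctor.comp (AlgSt.overMap (prod.fst : U ⨯ U ⟶ U)) x)
      (BasedFunctor.comp (AlgSt.overMap (prod.snd : U ⨯ U ⟶ U)) x)) := by
  obtain ⟨i⟩ := nonempty_fpLift_prodMapF (AlgSt.overMap (prod.fst : U ⨯ U ⟶ U))
    (AlgSt.overMap (prod.snd : U ⨯ U ⟶ U)) x
  exact repWith_of_iso i ((repWith_precomp_equiv (isEquivOver_prodSlices U U) _).2
    (repWith_prodMapF (isFibGrpd_overCat U) hX hb hc hd h))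

end Groth.AlgStImm
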