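import Groth.Agent.AlgStImm.QcTest
import Groth.Agent.AlgStImm.Product
import Groth.Agent.AlgStBasic.RepDescend
import Mathlib.AlgebraicGeometry.Noetherian

/-!
# Quasi-compactness of the diagonal from quasi-compact automorphism spaces and generic isomorphisms
-/

set_option autoImplicit false
set_option backward.isDefEq.respectTransparency false
set_option backward.isDefEq.respectTransparency.types false

universe u

open CategoryTheory CategoryTheory.Limits AlgebraicGeometry Opposite Topology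
open Groth.StkBase Groth.AlgStBasic Groth.AlgSpBasic

noncomputable section

namespace Groth.AlgStImm

variable {S : Scheme.{u}} {𝒳 : AlgSt.Cat S}

/-- The automorphism spaces over affine schemes are quasi-compact. -/
def AutQc (𝒳 : AlgSt.Cat S) : Prop :=
  ∀ (U : Over S), IsAffine U.left → ∀ (x : FibCat.overCat U ⥤ᵇ 𝒳),
      ∃ (F : AlgSp.Space S) (e : AlgSt.ofSp F.obj ⥤ᵇ FibCat.fp (FibCat.fpLift x x (Iso.refl _)) (FibCat.diag (FibCat.toSelf 𝒳))),
        FibCat.IsEquivOver e ∧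
          AlgSp.IsQuasiCompactMor (AlgSt.spMapOfOver (BasedFunctor.comp e (FibCat.fpFst _ _)))

/-- Objects isomorphic at a dense set of points are isomorphic over a dense open. -/
def GenericIso (𝒳 : AlgSt.Cat S) : Prop :=
  ∀ (U : Over S), IsAffine U.left → IsIntegral U.left → ∀ (x y : FibCat.overCat U ⥤ᵇ 𝒳)
      (D : Set ↥U.left), Dense D →
      (∀ t ∈ D, ∃ (L : Type u) (_ : Field L) (g : Spec (CommRingCat.of L) ⟶ U.left), Set.range g.base = {t} ∧
        Nonempty (BasedFunctor.comp (AlgSt.overMap (Over.homMk g rfl : Over.mk (g ≫ U.hom) ⟶ U)) x ≅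
          BasedFunctor.comp (AlgSt.overMap (Over.homMk g rfl : Over.mk (g ≫ U.hom) ⟶ U)) y)) →
      ∃ V : U.left.Opens, Dense (V : Set ↥U.left) ∧
        Nonempty (BasedFunctor.comp (AlgSt.overMap (Over.homMk V.ι rfl : Over.mk (V.ι ≫ U.hom) ⟶ U)) x ≅
          BasedFunctor.comp (AlgSt.overMap (Over.homMk V.ι rfl : Over.mk (V.ι ≫ U.hom) ⟶ U)) y)

/-- A point of a stack is the point of a chart from the spectrum of a field. -/
theorem exists_field_through {𝒲 : AlgSt.Cat S} (hW : FibCat.IsFibGrpd 𝒲.p) (z : AlgSt.Points 𝒲) :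
    ∃ (L : Type u) (_ : Field L) (str : Spec (CommRingCat.of L) ⟶ S)
      (l : FibCat.overCat (Over.mk str) ⥤ᵇ 𝒲), ∀ t, AlgSt.Points.ofChart l t = z := by
  obtain ⟨p, rfl⟩ := AlgSt.Points.mk_surjective z
  obtain ⟨i, -⟩ := overFunctor_eval hW p.obj p.lies
  refine ⟨p.K, p.field, p.str, overFunctor hW p.obj p.lies, fun t => ?_⟩
  rw [ofChart_eq_map]
  have h1 : AlgSt.Points.ofChart (BasedFunctor.id (FibCat.overCat (Over.mk p.str))) t = AlgSt.Points.mk
      ({ K := p.K, str := p.str, obj := idObj (Over.mk p.str), lies := rfl } :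
        AlgSt.FPt (FibCat.overCat (Over.mk p.str))) := by
    rw [← ofChart_id_ptToScheme (AlgSt.Points.mk _)]
    exact congrArg _ (Subsingleton.elim (α := PrimeSpectrum p.K) _ _)
  rw [h1]
  exact mk_eq_of_hom (p := AlgSt.FPt.map _ _) (q := p) i.hom

theorem toPt_comp_overMap {𝒲 : AlgSt.Cat S} {T X : Over S} (π : 𝒲 ⥤ᵇ FibCat.overCat T) (j : T ⟶ X)
    (p : AlgSt.Points 𝒲) :
    Groth.AlgStDVR.toPt (BasedFunctor.comp π (AlgSt.overMap j)) p =
      j.left (Groth.AlgStDVR.toPt π p) := by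
  rw [Groth.AlgStDVR.toPt, map_comp, Groth.AlgStDVR.map_eq_ofChart π p, ← ofChart_eq_map]
  exact (congrArg (ptToScheme X) (ofChart_overMap j (BasedFunctor.id _) _)).trans
    (ptToScheme_ofChart_id _)

section Induction

variable {X : Over S} {x y : FibCat.overCat X ⥤ᵇ 𝒳} {F : AlgSp.Space S}
  {e : AlgSt.ofSp F.obj ⥤ᵇ FibCat.fp (pair x y) (FibCat.diag (FibCat.toSelf 𝒳))}

variable (e) in
/-- The point of the scheme under a point of the space of isomorphisms. -/
def under (p : AlgSp.Points F.obj) : ↥X.left :=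
  AlgSp.Points.toScheme X
    (AlgSp.Points.map (AlgSt.spMapOfOver (BasedFunctor.comp e (FibCat.fpFst _ _))) p)

theorem under_eq (p : AlgSp.Points F.obj) :
    under e p = Groth.AlgStDVR.toPt (FibCat.fpFst (pair x y) (FibCat.diag (FibCat.toSelf 𝒳)))
      (AlgSt.Points.map e (spPt p)) := by
  rw [Groth.AlgStDVR.toPt_map]
  exact (ptToScheme_map_spPt _ p).symm

/-- Above a part of the scheme over which the objects are isomorphic the space of isomorphisms is
quasi-compact. -/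
theorem isCompact_under_range (hX : FibCat.IsFibGrpd 𝒳.p) (hi : AutQc 𝒳)
    (he : FibCat.IsEquivOver e) {T : Over S} [IsAffine T.left] (j : T ⟶ X)
    (φ : BasedFunctor.comp (AlgSt.overMap j) x ≅ BasedFunctor.comp (AlgSt.overMap j) y) :
    IsCompact (under e ⁻¹' Set.range j.left) := by
  let xT := BasedFunctor.comp (AlgSt.overMap j) x
  obtain ⟨G, eG, heG, hG⟩ := hi T inferInstance xT
  have hGq : AlgSp.IsQuasiCompactSp G.obj :=
    hG (AlgSp.IsAlgSpace.yon_obj _) ((isQuasiCompactSp_yon_iff _).2 inferInstance) (𝟙 _) (𝟙 _) _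
      IsPullback.of_id_fst
  have : CompactSpace (AlgSp.Points G.obj) := (isQuasiCompactSp_iff_compactSpace G.property).1 hGq
  let Δ := FibCat.diag (FibCat.toSelf 𝒳)
  let δ : BasedFunctor.comp (AlgSt.overMap j) (pair x y) ≅ FibCat.fpLift xT xT (Iso.refl _) :=
    fpIsoMk (Iso.refl _) φ.symm fun _ => self_ext ((isVert_map (isVert_isoApp _ _)).comp (fp_isVert _))
      ((fp_isVert _).comp (isVert_map (isVert_isoApp _ _)))
  let Γ : FibCat.fp (AlgSt.overMap j) (FibCat.fpFst (pair x y) Δ) ⥤ᵇ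
      FibCat.fp (FibCat.fpLift xT xT (Iso.refl _)) Δ :=
    BasedFunctor.comp (fpPaste (AlgSt.overMap j) (pair x y) Δ) (fpCongr δ (Iso.refl _))
  have hΓ : FibCat.IsEquivOver Γ :=
    isEquivOver_comp (isEquivOver_fpPaste _ _ _) (isEquivOver_fpCongr _ _)
  obtain ⟨Γ', hΓ', -⟩ := isEquivOver_symm hΓ
  obtain ⟨e', -, ⟨ε⟩, ⟨ε'⟩⟩ := isEquivOver_symm he
  let Ψ := BasedFunctor.comp (BasedFunctor.comp eG Γ')
    (FibCat.fpSnd (AlgSt.overMap j) (FibCat.fpFst (pair x y) Δ))
  let Θ : AlgSt.ofSp G.obj ⥤ᵇ AlgSt.ofSp F.obj := BasedFunctor.comp Ψ e'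
  obtain ⟨θ⟩ := nonempty_iso_mapOf Θ
  have hθ : ∀ g, spPt (AlgSp.Points.map (mapOf Θ) g) = AlgSt.Points.map Θ (spPt g) := fun g => by
    rw [← map_ofPshMap_spPt, map_eq_of_iso θ]
  suffices e₀ : under e ⁻¹' Set.range j.left = Set.range (AlgSp.Points.map (mapOf Θ)) by
    rw [e₀]
    exact isCompact_range (AlgSp.Points.continuous_map _)
  have hXF := isFibGrpd_selfProd hX
  have hP := isFibGrpd_fp (F := pair x y) (G := Δ) (isFibGrpd_overCat X) hX hXF
  ext p
  constructor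
  · rintro ⟨v, hv⟩
    rw [under_eq] at hv
    obtain ⟨w, -, hw⟩ := exists_points_fp hP (isFibGrpd_overCat X) (isFibGrpd_overCat T)
      (FibCat.fpFst (pair x y) Δ) (AlgSt.overMap j) (AlgSt.Points.ofChart (BasedFunctor.id _) v)
      (AlgSt.Points.map e (spPt p)) (by
        rw [Groth.AlgStDVR.map_eq_ofChart (FibCat.fpFst (pair x y) Δ), ← hv, ← ofChart_eq_map]
        exact ofChart_overMap j (BasedFunctor.id _) v)
    obtain ⟨s, rfl⟩ := (bijective_map_of_isEquivOver (isEquivOver_comp heG hΓ')).2 w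
    obtain ⟨g, rfl⟩ := bijective_spPt.2 s
    refine ⟨g, bijective_spPt.1 ((hθ g).trans ?_)⟩
    rw [map_comp Ψ e', map_comp, hw, ← map_comp, map_eq_of_iso ε, map_id]
  · rintro ⟨g, rfl⟩
    rw [Set.mem_preimage, under_eq, hθ, ← map_comp, Groth.AlgStDVR.toPt_map]
    have ι : BasedFunctor.comp (BasedFunctor.comp Θ e) (FibCat.fpFst (pair x y) Δ) ≅
        BasedFunctor.comp (BasedFunctor.comp (BasedFunctor.comp eG Γ')
          (FibCat.fpFst (AlgSt.overMap j) (FibCat.fpFst (pair x y) Δ))) (AlgSt.overMap j) :=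
      (whiskerRightIso (whiskerLeftIso Ψ ε') (FibCat.fpFst (pair x y) Δ)).trans
        (whiskerLeftIso (BasedFunctor.comp eG Γ') (FibCat.fpIso (AlgSt.overMap j) _)).symm
    refine ⟨Groth.AlgStDVR.toPt (BasedFunctor.comp (BasedFunctor.comp eG Γ')
      (FibCat.fpFst (AlgSt.overMap j) (FibCat.fpFst (pair x y) Δ))) (spPt g), ?_⟩
    rw [← toPt_comp_overMap]
    show _ = Groth.AlgStDVR.toPt (BasedFunctor.comp (BasedFunctor.comp Θ e) _) (spPt g)
    rw [Groth.AlgStDVR.toPt, Groth.AlgStDVR.toPt, congrFun (map_eq_of_iso ι) (spPt g)]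

set_option maxHeartbeats 800000 in
/-- Over a point of the image of the space of isomorphisms the objects become isomorphic after
an extension of fields. -/
theorem exists_field_iso (hX : FibCat.IsFibGrpd 𝒳.p) {TA : Over S} (jA : TA ⟶ X) (t : ↥TA.left)
    (ht : ∃ p, under e p = jA.left t) :
    ∃ (L : Type u) (_ : Field L) (g : Spec (CommRingCat.of L) ⟶ TA.left), Set.range g.base = {t} ∧
      Nonempty (BasedFunctor.comp (AlgSt.overMap (Over.homMk g rfl : Over.mk (g ≫ TA.hom) ⟶ TA))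
          (BasedFunctor.comp (AlgSt.overMap jA) x) ≅
        BasedFunctor.comp (AlgSt.overMap (Over.homMk g rfl : Over.mk (g ≫ TA.hom) ⟶ TA))
          (BasedFunctor.comp (AlgSt.overMap jA) y)) := by
  obtain ⟨p, hp⟩ := ht
  let Δ := FibCat.diag (FibCat.toSelf 𝒳)
  have hP := isFibGrpd_fp (F := pair x y) (G := Δ) (isFibGrpd_overCat X) hX (isFibGrpd_selfProd hX)
  rw [under_eq] at hp
  obtain ⟨w, hw, -⟩ := exists_points_fp hP (isFibGrpd_overCat X) (isFibGrpd_overCat TA)
    (FibCat.fpFst (pair x y) Δ) (AlgSt.overMap jA) (AlgSt.Points.ofChart (BasedFunctor.id _) t)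
    (AlgSt.Points.map e (spPt p)) (by
      rw [Groth.AlgStDVR.map_eq_ofChart (FibCat.fpFst (pair x y) Δ), hp, ← ofChart_eq_map]
      exact ofChart_overMap jA (BasedFunctor.id _) t)
  obtain ⟨L, _, str, l, hl⟩ :=
    exists_field_through (isFibGrpd_fp (isFibGrpd_overCat TA) hP (isFibGrpd_overCat X)) w
  obtain ⟨b', ⟨β⟩⟩ := exists_iso_overMap (BasedFunctor.comp l
    (FibCat.fpFst (AlgSt.overMap jA) (FibCat.fpFst (pair x y) Δ)))
  let g : Spec (CommRingCat.of L) ⟶ TA.left := b'.left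
  have hb' : ∀ z, b'.left z = t := fun z => by
    rw [← Groth.AlgStDVR.toPt_ofChart β z, hl, Groth.AlgStDVR.toPt, hw, ptToScheme_ofChart_id]
  have hr : Set.range g.base = {t} := Set.eq_singleton_iff_unique_mem.2
    ⟨⟨IsLocalRing.closedPoint L, hb' _⟩, by rintro _ ⟨z, rfl⟩; exact hb' z⟩
  let c : Over.mk (g ≫ TA.hom) ⟶ Over.mk str :=
    Over.homMk (𝟙 _) ((Category.id_comp _).trans (Over.w b').symm)
  have hc : (Over.homMk g rfl : Over.mk (g ≫ TA.hom) ⟶ TA) = c ≫ b' :=
    Over.OverMorphism.ext (Category.id_comp _).symm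
  let h := BasedFunctor.comp (BasedFunctor.comp l
    (FibCat.fpSnd (AlgSt.overMap jA) (FibCat.fpFst (pair x y) Δ))) (FibCat.fpSnd (pair x y) Δ)
  let ι : BasedFunctor.comp (AlgSt.overMap b') (BasedFunctor.comp (AlgSt.overMap jA) (pair x y)) ≅
      BasedFunctor.comp h Δ :=
    (whiskerRightIso β.symm (BasedFunctor.comp (AlgSt.overMap jA) (pair x y))).trans
      ((whiskerRightIso (whiskerLeftIso l
        (FibCat.fpIso (AlgSt.overMap jA) (FibCat.fpFst (pair x y) Δ))) (pair x y)).trans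
        (whiskerLeftIso (BasedFunctor.comp l (FibCat.fpSnd (AlgSt.overMap jA)
          (FibCat.fpFst (pair x y) Δ))) (FibCat.fpIso (pair x y) Δ)))
  have ι₁ : BasedFunctor.comp (AlgSt.overMap b') (BasedFunctor.comp (AlgSt.overMap jA) x) ≅ h :=
    whiskerRightIso ι (FibCat.fpFst _ _)
  have ι₂ : BasedFunctor.comp (AlgSt.overMap b') (BasedFunctor.comp (AlgSt.overMap jA) y) ≅ h :=
    whiskerRightIso ι (FibCat.fpSnd _ _)
  let γ := (Groth.AlgStDVR.overMapCongr hc).trans (Groth.AlgStDVR.overMapComp c b').symm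
  let μ : BasedFunctor.comp (BasedFunctor.comp (AlgSt.overMap c) (AlgSt.overMap b'))
      (BasedFunctor.comp (AlgSt.overMap jA) x) ≅
    BasedFunctor.comp (BasedFunctor.comp (AlgSt.overMap c) (AlgSt.overMap b'))
      (BasedFunctor.comp (AlgSt.overMap jA) y) := whiskerLeftIso (AlgSt.overMap c) (ι₁.trans ι₂.symm)
  exact ⟨L, ‹_›, g, hr, ⟨(whiskerRightIso γ (BasedFunctor.comp (AlgSt.overMap jA) x)).trans
    (μ.trans (whiskerRightIso γ.symm (BasedFunctor.comp (AlgSt.overMap jA) y)))⟩⟩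

/-- Noetherian induction: the space of isomorphisms over a closed part of an affine open is
quasi-compact. -/
theorem isCompact_under_closed (hX : FibCat.IsFibGrpd 𝒳.p) (hi : AutQc 𝒳) (hii : GenericIso 𝒳)
    (he : FibCat.IsEquivOver e) (R : CommRingCat.{u}) [IsNoetherianRing R] (j : Spec R ⟶ X.left)
    (Z : TopologicalSpace.Closeds ↥(Spec R)) :
    IsCompact (under e ⁻¹' (j '' (Z : Set ↥(Spec R)))) := by
  have : TopologicalSpace.NoetherianSpace ↥(Spec R) :=
    (inferInstance : TopologicalSpace.NoetherianSpace (PrimeSpectrum R))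
  induction Z using WellFoundedLT.induction with
  | ind Z ih =>
    rcases Set.eq_empty_or_nonempty (Z : Set ↥(Spec R)) with hZ | hZ
    · simp [hZ]
    by_cases hirr : IsPreirreducible (Z : Set ↥(Spec R))
    swap
    · rw [isPreirreducible_iff_isClosed_union_isClosed] at hirr
      push Not at hirr
      obtain ⟨z₁, z₂, hz₁, hz₂, hsub, h₁, h₂⟩ := hirr
      let Z₁ : TopologicalSpace.Closeds ↥(Spec R) := ⟨↑Z ∩ z₁, Z.isClosed.inter hz₁⟩
      let Z₂ : TopologicalSpace.Closeds ↥(Spec R) := ⟨↑Z ∩ z₂, Z.isClosed.inter hz₂⟩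
      have hlt₁ : Z₁ < Z := lt_of_le_of_ne (fun x hx => hx.1)
        (fun e => h₁ fun x hx => ((e ▸ hx : x ∈ Z₁) : x ∈ (Z : Set _) ∩ z₁).2)
      have hlt₂ : Z₂ < Z := lt_of_le_of_ne (fun x hx => hx.1)
        (fun e => h₂ fun x hx => ((e ▸ hx : x ∈ Z₂) : x ∈ (Z : Set _) ∩ z₂).2)
      have e₀ : (Z : Set ↥(Spec R)) = (↑Z ∩ z₁) ∪ (↑Z ∩ z₂) := by
        rw [← Set.inter_union_distrib_left, Set.inter_eq_left.2 hsub]
      rw [e₀, Set.image_union, Set.preimage_union]
      exact (ih Z₁ hlt₁).union (ih Z₂ hlt₂)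
    -- the part of `Z` met by the image
    let E : Set ↥(Spec R) := (Z : Set ↥(Spec R)) ∩ j ⁻¹' Set.range (under e)
    by_cases hd : closure E = (Z : Set ↥(Spec R))
    swap
    · let Z' : TopologicalSpace.Closeds ↥(Spec R) := ⟨closure E, isClosed_closure⟩
      have hle : closure E ⊆ (Z : Set ↥(Spec R)) := closure_minimal Set.inter_subset_left Z.isClosed
      have hlt : Z' < Z := lt_of_le_of_ne hle (fun h => hd (congrArg SetLike.coe h))
      have e₀ : under e ⁻¹' (j '' (Z : Set ↥(Spec R))) = under e ⁻¹' (j '' closure E) := by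
        refine Set.Subset.antisymm ?_ (Set.preimage_mono (Set.image_mono hle))
        rintro p ⟨z, hz, hzp⟩
        exact ⟨z, subset_closure ⟨hz, ⟨p, hzp.symm⟩⟩, hzp⟩
      rw [e₀]
      exact ih Z' hlt
    -- `Z` is the spectrum of a domain
    let P : Ideal R := PrimeSpectrum.vanishingIdeal (SetLike.coe Z : Set ↥(Spec R))
    have : P.IsPrime := PrimeSpectrum.isIrreducible_iff_vanishingIdeal_isPrime.1 ⟨hZ, hirr⟩
    let A : Type u := R ⧸ P
    let i : Spec (CommRingCat.of A) ⟶ Spec R := Spec.map (CommRingCat.ofHom (Ideal.Quotient.mk P))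
    have hri : Set.range i = (Z : Set ↥(Spec R)) := by
      refine ((range_comap_of_surjective _ (Ideal.Quotient.mk P)
        Ideal.Quotient.mk_surjective).trans ?_)
      rw [Ideal.mk_ker, PrimeSpectrum.zeroLocus_vanishingIdeal_eq_closure]; exact Z.isClosed.closure_eq
    have hie : Topology.IsClosedEmbedding i :=
      PrimeSpectrum.isClosedEmbedding_comap_of_surjective _ _ Ideal.Quotient.mk_surjective
    have hD : Dense (i ⁻¹' E) := by
      rw [dense_iff_closure_eq, hie.isInducing.closure_eq_preimage_closure_image]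
      rw [Set.image_preimage_eq_of_subset (by rw [hri]; exact Set.inter_subset_left), hd, ← hri,
        Set.preimage_range]
    let TA : Over S := Over.mk (i ≫ j ≫ X.hom)
    let jA : TA ⟶ X := Over.homMk (i ≫ j) (Category.assoc _ _ _)
    let Δ := FibCat.diag (FibCat.toSelf 𝒳)
    obtain ⟨V, hV, ⟨φ⟩⟩ := hii TA (inferInstanceAs (IsAffine (Spec (CommRingCat.of A))))
      (inferInstanceAs (IsIntegral (Spec (CommRingCat.of A))))
      (BasedFunctor.comp (AlgSt.overMap jA) x) (BasedFunctor.comp (AlgSt.overMap jA) y)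
      (i ⁻¹' E) hD fun t ht => exists_field_iso hX jA (e := e) t
        (let ⟨p, hp⟩ := ht.2; ⟨p, hp⟩)
    have : Nonempty TA.left := inferInstanceAs (Nonempty (PrimeSpectrum A))
    obtain ⟨q, hq⟩ := hV.nonempty
    obtain ⟨V', hV', hqV', hVV⟩ := exists_isAffineOpen_mem_and_subset (X := TA.left) (x := q) (U := V) hq
    let TV : Over S := Over.mk (V'.ι ≫ TA.hom)
    have : IsAffine TV.left := hV'
    let jV : Over.mk (V.ι ≫ TA.hom) ⟶ TA := Over.homMk V.ι rfl
    let lV : TV ⟶ Over.mk (V.ι ≫ TA.hom) := Over.homMk (TA.left.homOfLE hVV)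
      (show TA.left.homOfLE hVV ≫ V.ι ≫ TA.hom = V'.ι ≫ TA.hom by rw [Scheme.homOfLE_ι_assoc])
    let jW : TV ⟶ X := (lV ≫ jV) ≫ jA
    let γ := (Groth.AlgStDVR.overMapComp (lV ≫ jV) jA).symm.trans
      (whiskerRightIso (Groth.AlgStDVR.overMapComp lV jV).symm (AlgSt.overMap jA))
    have hC := isCompact_under_range hX hi he jW ((whiskerRightIso γ x).trans
      ((whiskerLeftIso (AlgSt.overMap lV) φ).trans (whiskerRightIso γ.symm y)))
    have hjW : Set.range jW.left = (fun t => j (i t)) '' (V' : Set ↥TA.left) := by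
      have : jW.left = V'.ι ≫ i ≫ j := by
        show (TA.left.homOfLE hVV ≫ V.ι) ≫ i ≫ j = _
        rw [Scheme.homOfLE_ι]
      rw [this]
      ext z
      constructor
      · rintro ⟨o, rfl⟩; exact ⟨o.1, o.2, rfl⟩
      · rintro ⟨o, ho, rfl⟩; exact ⟨⟨o, ho⟩, rfl⟩
    -- the closed complement of the open piece
    obtain ⟨W, hW, hWV⟩ := hie.isInducing.isOpen_iff.1 V'.2
    let Z' : TopologicalSpace.Closeds ↥(Spec R) :=
      ⟨↑Z ∩ Wᶜ, Z.isClosed.inter hW.isClosed_compl⟩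
    have hlt : Z' < Z := by
      refine lt_of_le_of_ne (fun x hx => hx.1) (fun h => ?_)
      have h1 : i q ∈ Z' := by rw [h]; exact SetLike.mem_coe.1 (hri.le (Set.mem_range_self q))
      exact h1.2 ((hWV.symm ▸ hqV' : q ∈ i ⁻¹' W))
    have e₀ : under e ⁻¹' (j '' (Z : Set ↥(Spec R))) =
        under e ⁻¹' Set.range jW.left ∪ under e ⁻¹' (j '' ((Z : Set ↥(Spec R)) ∩ Wᶜ)) := by
      rw [← Set.preimage_union, hjW]
      congr 1
      ext z
      constructor
      · rintro ⟨r, hr, rfl⟩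
        by_cases hrW : r ∈ W
        · obtain ⟨t, rfl⟩ := hri.symm ▸ hr
          exact Or.inl ⟨t, (hWV.le hrW :), rfl⟩
        · exact Or.inr ⟨r, ⟨hr, hrW⟩, rfl⟩
      · rintro (⟨t, -, rfl⟩ | ⟨r, hr, rfl⟩)
        · exact ⟨i t, hri.le (Set.mem_range_self t), rfl⟩
        · exact ⟨r, hr.1, rfl⟩
    rw [e₀]
    exact hC.union (ih Z' hlt)

end Induction

/-- The diagonal is quasi-compact. -/
theorem repWith_diag_qc [IsLocallyNoetherian S] (h𝒳 : AlgSt.IsAlgStack Scheme.fppfPrecoverage 𝒳)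
    (hlfp : ∀ (U : Over S) (x : FibCat.overCat U ⥤ᵇ 𝒳),
      AlgSt.RepByAlgSpWith (AlgSp.LocP @Smooth) x → LocallyOfFinitePresentation U.hom)
    (hi : AutQc 𝒳) (hii : GenericIso 𝒳) :
    AlgSt.RepByAlgSpWith AlgSp.IsQuasiCompactMor (FibCat.diag (FibCat.toSelf 𝒳)) := by
  have hX := h𝒳.isStack.1
  obtain ⟨U, u, hu, hus⟩ := h𝒳.atlas
  have := hlfp U u hu
  let j₁ : U ⨯ U ⟶ U := prod.fst
  let j₂ : U ⨯ U ⟶ U := prod.snd
  let x := BasedFunctor.comp (AlgSt.overMap j₁) u
  let y := BasedFunctor.comp (AlgSt.overMap j₂) u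
  have hpf : LocallyOfFiniteType (U ⨯ U).hom := by
    have h₁ : LocallyOfFiniteType (pullback.fst U.hom U.hom ≫ U.hom) := inferInstance
    rw [← Over.w (prod.fst : U ⨯ U ⟶ U), ← Over.prodLeftIsoPullback_hom_fst U U, Category.assoc]
    infer_instance
  have : IsLocallyNoetherian (U ⨯ U).left := LocallyOfFiniteType.isLocallyNoetherian (U ⨯ U).hom
  have hY : AlgSt.IsAlgStack Scheme.fppfPrecoverage
      (FibCat.fp (FibCat.toSelf 𝒳) (FibCat.toSelf 𝒳) : AlgSt.Cat S) :=
    isAlgStack_fp isStack_selfOver isAlgStack_selfOver.diag h𝒳 h𝒳 _ _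
  have hw := repWith_pair_atlas (x := u) hX stableBaseChange_locP stableComp_locP
    descendsAlongAtlas_locP hu
  have hws := repWith_pair_atlas (x := u) hX stableBaseChange_surjective stableComp_surjective
    descendsAlongAtlas_surjective hus
  let w : AlgSt.ofSp ((AlgSp.ofScheme S).obj (U ⨯ U)).obj ⥤ᵇ
      FibCat.fp (FibCat.toSelf 𝒳) (FibCat.toSelf 𝒳) :=
    BasedFunctor.comp (AlgSt.toOverCat (U ⨯ U)) (pair x y)
  have he' := isEquivOver_toOverCat (U ⨯ U)
  have hsm : AlgSt.RepByAlgSpWith (AlgSp.LocP @Smooth) w := (repWith_precomp_equiv he' _).2 hw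
  refine (repWith_iff_exists_map_of_cover' stableBaseChange_qc isLocalOnBase_fppf_qc h𝒳 hY _
    (W := (AlgSp.ofScheme S).obj (U ⨯ U)) (w := w)
    (repWith_locP_of_smooth (P := @Flat) (fun _ _ k (_ : Smooth k) => inferInstance) hsm)
    (repWith_locP_of_smooth (P := @LocallyOfFinitePresentation)
      (fun _ _ k (_ : Smooth k) => inferInstance) hsm)
    ((repWith_precomp_equiv he' _).2 hws)).2 ?_
  let Δ := FibCat.diag (FibCat.toSelf 𝒳)
  obtain ⟨F, e, he⟩ := h𝒳.diag (U ⨯ U) (pair x y)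
  let G : FibCat.fp (pair x y) Δ ⥤ᵇ FibCat.fp w Δ :=
    fpPre (AlgSt.ofOverCat (U ⨯ U)) (BasedFunctor.id 𝒳) w Δ
  refine ⟨F, ObjectProperty.homMk (AlgSt.spMapOfOver (BasedFunctor.comp e (FibCat.fpFst _ _))),
    BasedFunctor.comp e G,
    isEquivOver_comp he (isEquivOver_fpPre (isEquivOver_ofOverCat _) (isEquivOver_id _) w Δ), ?_, ?_⟩
  · obtain ⟨β⟩ := nonempty_iso_mapOf (G := (AlgSp.yon S).obj (U ⨯ U))
      (BasedFunctor.comp (BasedFunctor.comp e (FibCat.fpFst (pair x y) Δ)) (AlgSt.ofOverCat (U ⨯ U)))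
    exact ⟨(β.trans (eqToIso (congrArg AlgSt.ofSpMap
      (ObjectProperty.hom_ext _ (spMapOfOver_hom_eq _).symm))) :)⟩
  · refine isQuasiCompactMor_of_isCompact_preimage F.property _ fun O hO => ?_
    have : IsNoetherianRing Γ((U ⨯ U).left, O) := IsLocallyNoetherian.component_noetherian ⟨O, hO⟩
    have h := isCompact_under_closed hX hi hii he Γ((U ⨯ U).left, O) hO.fromSpec ⊤
    rwa [TopologicalSpace.Closeds.coe_top, Set.image_univ, hO.range_fromSpec] at h

end Groth.AlgStImm
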