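import Groth.Agent.AlgSpBasic.SepLocal
import Groth.Agent.AlgSpBasic.DecentFinite
import Groth.Agent.AlgSpBasic.QComp
import Groth.Agent.AlgSp2.ImmersionLocality
import Groth.Agent.AlgSp2.UnramMono
import Groth.Agent.AlgStBasic.SpaceProps

/-!
# Quasi-compactness of a map to a scheme, read on preimages of affine opens
-/

set_option autoImplicit false
set_option backward.isDefEq.respectTransparency false
set_option backward.isDefEq.respectTransparency.types false

universe u

open CategoryTheory CategoryTheory.Limits AlgebraicGeometry Opposite Topology AlgSp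
open Groth.AlgSpBasic

noncomputable section

namespace Groth.AlgStImm

variable {S : Scheme.{u}}

/-- Over a quasi-separated base a map to a scheme is quasi-compact once the preimages of the affine
opens of the scheme are compact. -/
theorem isQuasiCompactMor_of_isCompact_preimage [QuasiSeparatedSpace ↥S] {F : Sp S}
    (hF : IsAlgSpace F) {X : Over S} (q : F ⟶ (yon S).obj X)
    (h : ∀ O : X.left.Opens, IsAffineOpen O →
      IsCompact ((fun p => Points.toScheme X (Points.map q p)) ⁻¹' (O : Set ↥X.left))) :
    IsQuasiCompactMor q := by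
  have hX := IsAlgSpace.yon_obj X
  choose S₀ hS₀ hxS₀ _ using fun x : X.left =>
    exists_isAffineOpen_mem_and_subset (X := S) (x := X.hom x) (U := ⊤) trivial
  choose O hO hxO hOS using fun x : X.left =>
    exists_isAffineOpen_mem_and_subset (X := X.left) (x := x) (U := X.hom ⁻¹ᵁ S₀ x) (hxS₀ x)
  let Y : X.left → Over S := fun x => Over.mk ((O x).ι ≫ X.hom)
  let g : ∀ x, Y x ⟶ X := fun x => Over.homMk (O x).ι rfl
  have hg : ∀ x, RepWith @IsOpenImmersion ((yon S).map (g x)) := fun x =>
    (repWith_yon_map_iff _ _).2 (inferInstanceAs (IsOpenImmersion (O x).ι))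
  have hcov : IsFppfCover (fun x => (yon S).obj (Y x)) (fun x => (yon S).map (g x)) := by
    refine ⟨fun x => ⟨?_, ?_⟩, fun p => ?_⟩
    · exact Groth.AlgStBasic.locP_of_repWith (P := @Flat) (fun _ _ φ (_ : Etale φ) => inferInstance)
        (Groth.AlgSpBasic.repWith_mono (fun _ _ φ (_ : IsOpenImmersion φ) => (inferInstance : Flat φ))
          (hg x))
    · exact Groth.AlgStBasic.locP_of_repWith (P := @LocallyOfFinitePresentation)
        (fun _ _ φ (_ : Etale φ) => inferInstance)
        (Groth.AlgSpBasic.repWith_mono (fun _ _ φ (_ : IsOpenImmersion φ) =>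
          (inferInstance : LocallyOfFinitePresentation φ)) (hg x))
    · obtain ⟨x, rfl⟩ := (Points.schemeHomeo X).surjective p
      refine ⟨x, Points.schemeHomeo _ (⟨x, hxO x⟩ : O x), ?_⟩
      exact Points.map_yon_map_apply (g x) _
  let P : X.left → Sp S := fun x => pullback q ((yon S).map (g x))
  have hP : ∀ x, IsAlgSpace (P x) := fun x =>
    isAlgSpace_of_isPullback (IsPullback.of_hasPullback _ _) hX.diag hF (IsAlgSpace.yon_obj (Y x))
  refine (Groth.AlgStBasic.isLocalOnBase_fppf_qc _ _ hX (fun x => IsAlgSpace.yon_obj (Y x)) hcov q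
    hF P (fun x => pullback.snd _ _) (fun x => pullback.fst _ _) hP
    (fun x => IsPullback.of_hasPullback _ _)).2 fun x => ?_
  have : IsAffine (Y x).left := hO x
  have hqs : IsQuasiSeparatedSp ((yon S).obj (Y x)) :=
    isQuasiSeparatedSp_yon_of_affine (A := Y x) (hS₀ x) (w := X.hom.resLE (S₀ x) (O x) (hOS x))
      (Scheme.Hom.resLE_comp_ι _ _)
  refine isQuasiCompactMor_of_source (hP x) (IsAlgSpace.yon_obj (Y x)) ?_ hqs _
  have sq := IsPullback.of_hasPullback q ((yon S).map (g x))
  let j := pullback.fst q ((yon S).map (g x))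
  have hj : RepWith @IsOpenImmersion j := repWith_of_isPullback sq.flip (hg x)
  have : Mono j := Groth.AlgSpBasic.mono_of_repWith
    (fun _ _ k (_ : IsOpenImmersion k) => inferInstance) hj
  have hinj : Function.Injective (Points.map j) :=
    Groth.AlgSp2.isUnivInjectiveMor_of_mono (f := j) hF (𝟙 _) (𝟙 _) j IsPullback.of_id_fst
  have hopen : IsOpenMap (Points.map j) :=
    isOpenMap_map_of_repWith (fun _ _ k (_ : IsOpenImmersion k) => k.isOpenMap) hj
  have hemb : IsOpenEmbedding (Points.map j) :=
    .of_continuous_injective_isOpenMap (Points.continuous_map j) hinj hopen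
  refine (isQuasiCompactSp_iff_compactSpace (hP x)).2
    ⟨hemb.isInducing.isCompact_iff.2 ?_⟩
  rw [Set.image_univ, Groth.AlgSp2.range_map_of_isPullback sq.flip]
  convert h (O x) (hO x) using 1
  ext p
  constructor
  · rintro ⟨t, ht⟩
    obtain ⟨o, rfl⟩ := (Points.schemeHomeo (Y x)).surjective t
    rw [Set.mem_preimage, ← ht, Points.map_yon_map_apply]
    exact (congrArg (· ∈ O x) (Points.toScheme_ofScheme _ _)).mpr o.2
  · intro hp
    refine ⟨Points.schemeHomeo (Y x) (⟨_, hp⟩ : O x), ?_⟩
    rw [Points.map_yon_map_apply]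
    exact Points.ofScheme_toScheme _ _

end Groth.AlgStImm
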